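
import Cfsg.Agent.H715.PDU.Psu

/-!
# S4247, row PSU, task J (helper680): `PSU_3(4)` has no subgroup of index 75
-/

set_option autoImplicit false

namespace Cfsg.Agent.H680.DPU

open Subgroup Cfsg Cfsg.Agent.H173.RU

theorem ty13 : Ty 4 13 3 := by
  refine ⟨by norm_num, ?_, by norm_num⟩
  have : Fact (Nat.Prime 3) := ⟨by norm_num⟩
  refine orderOf_eq_prime ?_ ?_
  · decide
  · decide

/-- Task J: `PSU_3(4)`. -/
theorem no_75 {F : Type} [Field F] [Fintype F] (hF : Fintype.card F = 4 ^ 2) {B : Subgroup (PSU 3 F 4)}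
    (hB : Nat.card B = 832) : False := by
  have : Fact (Nat.Prime 13) := ⟨by norm_num⟩
  have hfin : Finite B := Nat.finite_of_card_ne_zero (by rw [hB]; norm_num)
  obtain ⟨R⟩ : Nonempty (Sylow 13 B) := inferInstance
  have hR : Nat.card R = 13 := by
    rw [R.card_eq_multiplicity, hB]
    have : (832 : ℕ).factorization 13 = 1 := by
      rw [show (832 : ℕ) = 2 ^ 6 * 13 by norm_num, Nat.factorization_mul (by norm_num) (by norm_num), Nat.factorization_pow]
      rw [Nat.Prime.factorization (show Nat.Prime 2 by norm_num), Nat.Prime.factorization (show Nat.Prime 13 by norm_num)]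
      simp
    rw [this, pow_one]
  have hidx : (R : Subgroup B).index = 64 := by
    have h1 := Subgroup.card_mul_index (R : Subgroup B)
    have h2 : Nat.card (R : Subgroup B) = 13 := hR
    rw [h2, hB] at h1
    omega
  have h1 := card_sylow_modEq_one 13 B
  have h2 : Nat.card (Sylow 13 B) ∣ 64 := by
    rw [← hidx]
    exact R.card_dvd_index
  have h3 : Nat.card (Sylow 13 B) = 1 := by
    have h4 : Nat.card (Sylow 13 B) ≤ 64 := Nat.le_of_dvd (by norm_num) h2
    unfold Nat.ModEq at h1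
    generalize Nat.card (Sylow 13 B) = N at *
    interval_cases N <;> first | rfl | (exfalso; revert h1 h2; norm_num)
  have hsub : Subsingleton (Sylow 13 B) := (Nat.card_eq_one_iff_unique.1 h3).1
  have hnorm : (R : Subgroup B).Normal := Sylow.normal_of_subsingleton R
  have hcyc : IsCyclic (R : Subgroup B) := isCyclic_of_prime_card (p := 13) hR
  obtain ⟨y, hy⟩ := (Subgroup.isCyclic_iff_exists_zpowers_eq_top _).1 hcyc
  have hyo : orderOf (y : PSU 3 F 4) = 13 := by
    rw [Subgroup.orderOf_coe, ← Nat.card_zpowers, hy]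
    exact hR
  have h4 := Cfsg.Agent.H715.PDU.card_norm ty13 hF (le_refl 3) (Or.inl rfl) (le_refl 3) hyo
  have h5 : B ≤ normalizer ((zpowers (y : PSU 3 F 4) : Subgroup (PSU 3 F 4)) : Set (PSU 3 F 4)) := by
    have hmap : (zpowers (y : PSU 3 F 4) : Subgroup (PSU 3 F 4)) = (R : Subgroup B).map B.subtype := by
      rw [← hy, MonoidHom.map_zpowers]
      rfl
    rw [hmap]
    have key : ∀ b ∈ B, ∀ h ∈ (R : Subgroup B).map B.subtype, b * h * b⁻¹ ∈ (R : Subgroup B).map B.subtype := by
      rintro b hb _ ⟨r, hr, rfl⟩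
      exact ⟨⟨b, hb⟩ * r * ⟨b, hb⟩⁻¹, hnorm.conj_mem r hr ⟨b, hb⟩, rfl⟩
    intro b hb
    rw [mem_normalizer_iff]
    intro h
    refine ⟨key b hb h, fun hh => ?_⟩
    have h7 := key b⁻¹ (B.inv_mem hb) _ hh
    have h8 : b⁻¹ * (b * h * b⁻¹) * b⁻¹⁻¹ = h := by group
    rwa [h8] at h7
  have h6 := (Subgroup.card_dvd_of_le h5).trans h4
  rw [hB, Cfsg.Agent.H715.PDU.tor] at h6
  revert h6
  norm_num

end Cfsg.Agent.H680.DPU
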